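import Cfsg.Agent.StdL34.PslCent
import Cfsg.Agent.ONType.OuterL
import Cfsg.Agent.FastGrp
import Cfsg.Agent.Prune
set_option linter.all false

section
prune_inst 0x7f00000000000000000000000000000000000000000000000000000000000000000000000000000000000000000000000000000000000000000000000000000000000000000000000000000000000000003fffffffffffffffffffffffffffbeffbdffffffff

-- part: LThreeFour/Dat
section
set_option linter.all false
open scoped Cfsg.Agent.FastGrp

-- part: LThreeFour/Code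
section
/-!
# Coded Sylow 2-subgroup of `L3(4)` and the pure outer automorphisms: finite computations

`x₀₁(a) x₁₂(b) x₀₂(c)` is coded by `⟨a, b, c⟩`. A pure outer type `(e, f, d)` is: field automorphism if `e`,
then the diagonal automorphism number `d`, then the graph automorphism if `f`.
-/

set_option autoImplicit false
set_option linter.constructorNameAsVariable false

namespace Cfsg.Agent.LThreeFour

open Cfsg.Agent.SporadicA.FieldFour
open Cfsg.Agent.ONType.OuterL (rv rv_ne rv_rv)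

/-- codes -/
structure Code where
  a : F4
  b : F4
  c : F4
  deriving DecidableEq

/-- product of codes -/
def cmul (p q : Code) : Code := ⟨p.a + q.a, p.b + q.b, q.a * p.b + p.c + q.c⟩

/-- the trivial code -/
def cone : Code := ⟨0, 0, 0⟩

/-- inverse code -/
def cinv (p : Code) : Code := ⟨p.a, p.b, p.c + p.a * p.b⟩

/-- Outer types: `(field, graph, diagonal)`. -/
abbrev Ty : Type := Bool × Bool × Fin 3

/-- the trivial type -/
abbrev ty1 : Ty := (false, false, 0)

/-- field twist -/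
def fr (e : Bool) (u : F4) : F4 := if e then u * u else u

/-- powers of `ω` -/
def om (d : Fin 3) : F4 := if d = 0 then 1 else if d = 1 then F4.w else F4.v

/-- diagonal entries -/
def gd (d : Fin 3) (i : Fin 3) : F4 := if i = 1 then 1 else om d

/-- character of the diagonal automorphism on a root group -/
def dg (d : Fin 3) (i j : Fin 3) : F4 := gd d i * gd (-d) j

/-- image of the parameter of a root element -/
def pu (τ : Ty) (i j : Fin 3) (u : F4) : F4 := dg τ.2.2 i j * fr τ.1 u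

/-- image of a root element under a pure outer type -/
def imgx {L : Type*} (x : Fin 3 → Fin 3 → F4 → L) (τ : Ty) (i j : Fin 3) (u : F4) : L :=
  if τ.2.1 then x (rv j) (rv i) (pu τ i j u) else x i j (pu τ i j u)

/-- product of outer types: `τ'` first -/
def Ty.mul (τ τ' : Ty) : Ty :=
  (xor τ.1 τ'.1, xor τ.2.1 τ'.2.1,
    (if τ'.2.1 then -τ.2.2 else τ.2.2) + (if τ.1 then -τ'.2.2 else τ'.2.2))

/-- inverse type -/
def Ty.inv (τ : Ty) : Ty :=
  (τ.1, τ.2.1, if xor τ.1 τ.2.1 then τ.2.2 else -τ.2.2)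

/-- the action of a pure outer type on codes -/
def ctau (τ : Ty) (p : Code) : Code :=
  if τ.2.1 then
    cmul (cmul ⟨0, pu τ 0 1 p.a, 0⟩ ⟨pu τ 1 2 p.b, 0, 0⟩) ⟨0, 0, pu τ 0 2 p.c⟩
  else ⟨pu τ 0 1 p.a, pu τ 1 2 p.b, pu τ 0 2 p.c⟩

/-- action of `y ↦ p⁻¹ τ(y) p` on codes -/
def cact (p : Code) (τ : Ty) (y : Code) : Code :=
  cmul (cmul (cinv p) (ctau τ y)) p

theorem forall_code {P : Code → Prop} : (∀ p, P p) ↔ ∀ a b c, P ⟨a, b, c⟩ :=
  ⟨fun h a b c => h _, fun h p => h p.a p.b p.c⟩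

instance {P : Code → Prop} [DecidablePred P] : Decidable (∀ p, P p) :=
  decidable_of_iff _ forall_code.symm

theorem exists_code {P : Code → Prop} : (∃ p, P p) ↔ ∃ a b c, P ⟨a, b, c⟩ :=
  ⟨fun ⟨p, h⟩ => ⟨p.a, p.b, p.c, h⟩, fun ⟨_, _, _, h⟩ => ⟨_, h⟩⟩

instance {P : Code → Prop} [DecidablePred P] : Decidable (∃ p, P p) :=
  decidable_of_iff _ exists_code.symm

instance : Fintype Code :=
  Fintype.ofEquiv (F4 × F4 × F4)
    { toFun := fun t => ⟨t.1, t.2.1, t.2.2⟩
      invFun := fun p => (p.a, p.b, p.c)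
      left_inv := fun _ => rfl
      right_inv := fun _ => rfl }

theorem card_code : Nat.card Code = 64 := by
  rw [Nat.card_eq_fintype_card]; decide +kernel

theorem cmul_cinv (p : Code) : cmul p (cinv p) = cone := by
  revert p; decide +kernel

theorem cmul_cone (p : Code) : cmul p cone = p := by
  revert p; decide +kernel

theorem cone_cmul (p : Code) : cmul cone p = p := by
  revert p; decide +kernel

theorem cmul_assoc (p q r : Code) : cmul (cmul p q) r = cmul p (cmul q r) := by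
  obtain ⟨a, b, c⟩ := p
  obtain ⟨a', b', c'⟩ := q
  obtain ⟨a'', b'', c''⟩ := r
  unfold cmul
  simp only [Code.mk.injEq]
  refine ⟨add_assoc _ _ _, add_assoc _ _ _, ?_⟩
  ring

theorem ctau_ty1 (p : Code) : ctau ty1 p = p := by
  revert p; decide +kernel

theorem Ty.mul_inv : ∀ τ : Ty, τ.mul τ.inv = ty1 := by decide

theorem Ty.inv_mul : ∀ τ : Ty, τ.inv.mul τ = ty1 := by decide

theorem Ty.mul_assoc : ∀ τ ρ σ : Ty, (τ.mul ρ).mul σ = τ.mul (ρ.mul σ) := by
  have key : ∀ (e e' f' f'' : Bool) (d d' d'' : Fin 3),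
      (if f'' then -((if f' then -d else d) + (if e then -d' else d'))
          else (if f' then -d else d) + (if e then -d' else d')) + (if xor e e' then -d'' else d'') =
        (if xor f' f'' then -d else d) +
          (if e then -((if f'' then -d' else d') + (if e' then -d'' else d''))
            else (if f'' then -d' else d') + (if e' then -d'' else d'')) := by
    decide +kernel
  rintro ⟨e, f, d⟩ ⟨e', f', d'⟩ ⟨e'', f'', d''⟩
  exact Prod.ext (Bool.xor_assoc e e' e'') (Prod.ext (Bool.xor_assoc f f' f'') (key e e' f' f'' d d' d''))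

theorem Ty.one_mul : ∀ τ : Ty, ty1.mul τ = τ := by decide

theorem Ty.mul_one : ∀ τ : Ty, τ.mul ty1 = τ := by decide

theorem Ty.eq_of_inv_mul : ∀ τ ρ : Ty, τ.inv.mul ρ = ty1 → ρ = τ := by decide +kernel

theorem dg_mul : ∀ d d' i j, dg d i j * dg d' i j = dg (d + d') i j := by decide +kernel

theorem fr_fr : ∀ e e' u, fr e (fr e' u) = fr (xor e e') u := by decide

theorem fr_mul : ∀ e u v, fr e (u * v) = fr e u * fr e v := by decide

theorem fr_dg : ∀ e d i j, fr e (dg d i j) = dg (if e then -d else d) i j := by decide +kernel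

theorem dg_rv : ∀ d i j, dg d (rv j) (rv i) = dg (-d) i j := by decide +kernel

theorem dg_zero : ∀ i j, dg 0 i j = 1 := by decide

theorem dg_02 : ∀ d, dg d 0 2 = 1 := by decide

/-- composition of parameters, no inner graph -/
theorem pu_pu : ∀ (τ τ' : Ty) i j u, τ'.2.1 = false →
    pu τ i j (pu τ' i j u) = pu (τ.mul τ') i j u := by
  rintro ⟨e, f, d⟩ ⟨e', f', d'⟩ i j u h
  obtain rfl : f' = false := h
  show dg d i j * fr e (dg d' i j * fr e' u) =
    dg (d + (if e then -d' else d')) i j * fr (xor e e') u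
  rw [fr_mul, fr_fr, fr_dg, ← mul_assoc, dg_mul]

theorem pu_pu' : ∀ (τ τ' : Ty) i j u, τ'.2.1 = true →
    pu τ (rv j) (rv i) (pu τ' i j u) = pu (τ.mul τ') i j u := by
  rintro ⟨e, f, d⟩ ⟨e', f', d'⟩ i j u h
  obtain rfl : f' = true := h
  show dg d (rv j) (rv i) * fr e (dg d' i j * fr e' u) =
    dg (-d + (if e then -d' else d')) i j * fr (xor e e') u
  rw [dg_rv, fr_mul, fr_fr, fr_dg, ← mul_assoc, dg_mul]

theorem imgx_imgx {L : Type*} (x : Fin 3 → Fin 3 → F4 → L) (τ τ' : Ty) (i j : Fin 3) (u : F4) :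
    (if τ'.2.1 then imgx x τ (rv j) (rv i) (pu τ' i j u) else imgx x τ i j (pu τ' i j u)) =
      imgx x (τ.mul τ') i j u := by
  cases h' : τ'.2.1 <;> cases h : τ.2.1
  · simp only [imgx, h, Ty.mul, h', Bool.false_eq_true, if_false, Bool.xor_false]
    rw [pu_pu τ τ' i j u h']; simp only [Ty.mul, h, h', Bool.false_eq_true, if_false, Bool.xor_false]
  · simp only [imgx, h, Ty.mul, h', Bool.false_eq_true, if_false, if_true, Bool.xor_false]
    rw [pu_pu τ τ' i j u h']; simp only [Ty.mul, h, h', Bool.false_eq_true, if_false, Bool.xor_false]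
  · simp only [imgx, h, Ty.mul, h', Bool.false_eq_true, if_false, if_true, Bool.xor_true, Bool.not_false]
    rw [pu_pu' τ τ' i j u h']; simp only [Ty.mul, h, h', if_true, Bool.xor_true, Bool.not_false]
  · simp only [imgx, h, Ty.mul, h', Bool.false_eq_true, if_false, if_true, Bool.xor_true, Bool.not_true,
      rv_rv]
    rw [pu_pu' τ τ' i j u h']; simp only [Ty.mul, h, h', if_true, Bool.xor_true, Bool.not_true]

end Cfsg.Agent.LThreeFour
end

-- part: LThreeFour/Dat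
section
/-!
# Abstract `L3(4)` with coordinates
-/

set_option autoImplicit false
set_option linter.constructorNameAsVariable false
set_option linter.unusedVariables false

namespace Cfsg.Agent.LThreeFour

open Cfsg.Agent.SporadicA.FieldFour
open Cfsg.Agent.ONType.Psl (kap)
open Cfsg.Agent.ONType.OuterL (rv rv_ne rv_rv)

/-- value of a code -/
def elx {L : Type*} [Group L] (x : Fin 3 → Fin 3 → F4 → L) (p : Code) : L :=
  x 0 1 p.a * x 1 2 p.b * x 0 2 p.c

/-- Coordinates on a group isomorphic to `PSL(3,4)`. -/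
structure Dat (L : Type*) [Group L] where
  x : Fin 3 → Fin 3 → F4 → L
  h : L
  x_add : ∀ i j, i ≠ j → ∀ u v, x i j u * x i j v = x i j (u + v)
  x_row : ∀ i j k, i ≠ j → i ≠ k → ∀ u v, x i j u * x i k v = x i k v * x i j u
  x_col : ∀ i j k, i ≠ j → k ≠ j → ∀ u v, x i j u * x k j v = x k j v * x i j u
  x_sum : ∀ i j k, i ≠ j → i ≠ k → j ≠ k → ∀ u v,
    x i k u * x k j v = x k j v * x i k u * x i j (u * v)
  x_wey : ∀ i j k l, i ≠ j → k ≠ l → ∀ u,
    (x i j 1 * x j i 1 * x i j 1)⁻¹ * x k l u * (x i j 1 * x j i 1 * x i j 1)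
      = x (Equiv.swap i j k) (Equiv.swap i j l) u
  h_pow : h ^ 3 = 1
  h_x : ∀ i j, i ≠ j → ∀ u, h⁻¹ * x i j u * h = x i j (kap i j * u)
  h_eq : ∀ i j, i ≠ j →
    x i j (kap i j) * x j i (kap j i) * x i j (kap i j) * (x i j 1 * x j i 1 * x i j 1) = h
  el_inj : Function.Injective (elx x)
  gen : Subgroup.closure {y | ∃ i j u, i ≠ j ∧ y = x i j u} = ⊤
  odd_index : ∃ T : Subgroup L, (∀ l, l ∈ T ↔ ∃ p, l = elx x p) ∧ ¬ 2 ∣ T.index
  cent : ∀ l, l * x 0 2 1 = x 0 2 1 * l → ∃ p, l = elx x p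
  outer : ∀ α : MulAut L, ∃ (l : L) (τ : Ty), ∀ i j, i ≠ j → ∀ u,
    l * α (x i j u) * l⁻¹ = imgx x τ i j u
  card : Nat.card L = 20160
  r_pow : (x 0 2 1 * x 2 0 1) ^ 3 = 1
  r_ne : x 0 2 1 * x 2 0 1 ≠ 1

namespace Dat

variable {L : Type*} [Group L] (A : Dat L)

/-- value of a code -/
def el (p : Code) : L := elx A.x p

theorem el_eq (p : Code) : A.el p = A.x 0 1 p.a * A.x 1 2 p.b * A.x 0 2 p.c := rfl

theorem x_zero (i j : Fin 3) (h : i ≠ j) : A.x i j 0 = 1 := by
  have := A.x_add i j h 0 0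
  rw [add_zero] at this
  exact mul_eq_left.mp this

theorem add_self (u : F4) : u + u = 0 := by revert u; decide

theorem x_sq (i j : Fin 3) (h : i ≠ j) (u : F4) : A.x i j u * A.x i j u = 1 := by
  rw [A.x_add i j h, add_self, A.x_zero i j h]

theorem x_inv (i j : Fin 3) (h : i ≠ j) (u : F4) : (A.x i j u)⁻¹ = A.x i j u :=
  inv_eq_of_mul_eq_one_left (A.x_sq i j h u)

theorem swap' (b a : F4) : A.x 1 2 b * A.x 0 1 a =
    A.x 0 1 a * A.x 1 2 b * A.x 0 2 (a * b) := by
  have h := A.x_sum 0 2 1 (by decide) (by decide) (by decide) a b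
  rw [h, mul_assoc, A.x_sq 0 2 (by decide), mul_one]

theorem el_mul (p q : Code) : A.el p * A.el q = A.el (cmul p q) := by
  obtain ⟨a, b, c⟩ := p
  obtain ⟨a', b', c'⟩ := q
  simp only [el_eq, cmul]
  have e1 := A.x_row 0 2 1 (by decide) (by decide) c a'
  have e2 := A.swap' b a'
  have e3 := A.x_col 0 2 1 (by decide) (by decide) (a' * b + c) b'
  have a1 := A.x_add 0 1 (by decide) a a'
  have a2 := A.x_add 1 2 (by decide) b b'
  have a3 := A.x_add 0 2 (by decide) (a' * b) c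
  have a4 := A.x_add 0 2 (by decide) (a' * b + c) c'
  calc A.x 0 1 a * A.x 1 2 b * A.x 0 2 c * (A.x 0 1 a' * A.x 1 2 b' * A.x 0 2 c')
      = A.x 0 1 a * A.x 1 2 b * (A.x 0 2 c * A.x 0 1 a') * A.x 1 2 b' * A.x 0 2 c' := by group
    _ = A.x 0 1 a * (A.x 1 2 b * A.x 0 1 a') * A.x 0 2 c * A.x 1 2 b' * A.x 0 2 c' := by
        rw [e1]; group
    _ = (A.x 0 1 a * A.x 0 1 a') * A.x 1 2 b * ((A.x 0 2 (a' * b) * A.x 0 2 c) * A.x 1 2 b') *
          A.x 0 2 c' := by
        rw [e2]; group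
    _ = (A.x 0 1 a * A.x 0 1 a') * (A.x 1 2 b * A.x 1 2 b') * (A.x 0 2 (a' * b + c) *
          A.x 0 2 c') := by
        rw [a3, e3]; group
    _ = _ := by
        rw [a1, a2, a4]

theorem el_one : A.el cone = 1 := by
  simp only [el_eq, cone]
  rw [A.x_zero 0 1 (by decide), A.x_zero 1 2 (by decide), A.x_zero 0 2 (by decide)]
  simp

theorem el_inv (p : Code) : (A.el p)⁻¹ = A.el (cinv p) := by
  apply inv_eq_of_mul_eq_one_right
  rw [A.el_mul, cmul_cinv, A.el_one]

theorem inj {p q : Code} (h : A.el p = A.el q) : p = q := A.el_inj h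

theorem el_eq_one {p : Code} : A.el p = 1 ↔ p = cone := by
  rw [← A.el_one]
  exact ⟨A.inj, fun h => by rw [h]⟩

theorem el_x02 (c : F4) : A.el ⟨0, 0, c⟩ = A.x 0 2 c := by
  simp only [el_eq]
  rw [A.x_zero 0 1 (by decide), A.x_zero 1 2 (by decide)]
  simp

theorem el_x01 (a : F4) : A.el ⟨a, 0, 0⟩ = A.x 0 1 a := by
  simp only [el_eq]
  rw [A.x_zero 0 2 (by decide), A.x_zero 1 2 (by decide)]
  simp

theorem el_x12 (b : F4) : A.el ⟨0, b, 0⟩ = A.x 1 2 b := by
  simp only [el_eq]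
  rw [A.x_zero 0 1 (by decide), A.x_zero 0 2 (by decide)]
  simp

/-- the Sylow 2-subgroup -/
def T : Subgroup L where
  carrier := Set.range A.el
  mul_mem' := by
    rintro _ _ ⟨p, rfl⟩ ⟨q, rfl⟩
    exact ⟨_, (A.el_mul p q).symm⟩
  one_mem' := ⟨cone, A.el_one⟩
  inv_mem' := by
    rintro _ ⟨p, rfl⟩
    exact ⟨_, (A.el_inv p).symm⟩

theorem mem_T {l : L} : l ∈ A.T ↔ ∃ p, A.el p = l := Iff.rfl

theorem el_mem (p : Code) : A.el p ∈ A.T := ⟨p, rfl⟩

theorem T_index : ¬ 2 ∣ A.T.index := by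
  obtain ⟨T, hT, h2⟩ := A.odd_index
  have : T = A.T := by
    ext l; rw [hT, mem_T]
    exact ⟨fun ⟨p, hp⟩ => ⟨p, hp.symm⟩, fun ⟨p, hp⟩ => ⟨p, hp.symm⟩⟩
  rwa [this] at h2

/-- codes of elements of the Sylow 2-subgroup -/
noncomputable def codeEquiv : Code ≃ A.T :=
  Equiv.ofBijective (fun p => ⟨A.el p, A.el_mem p⟩) ⟨fun p q h => A.inj (congrArg Subtype.val h),
    fun ⟨_, p, hp⟩ => ⟨p, Subtype.ext hp⟩⟩

theorem card_T : Nat.card A.T = 64 := by
  rw [← Nat.card_congr A.codeEquiv, card_code]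

/-- `β` acts on the coordinates exactly as the pure outer type `τ` -/
def IsTau (τ : Ty) (β : MulAut L) : Prop :=
  ∀ i j, i ≠ j → ∀ u, β (A.x i j u) = imgx A.x τ i j u

theorem exists_tau (α : MulAut L) : ∃ (l : L) (τ : Ty), A.IsTau τ (MulAut.conj l * α) := A.outer α

variable {A}

theorem IsTau.x01 {τ : Ty} {β : MulAut L} (h : A.IsTau τ β) (u : F4) :
    β (A.x 0 1 u) = if τ.2.1 then A.x 1 2 (pu τ 0 1 u) else A.x 0 1 (pu τ 0 1 u) :=
  h 0 1 (by decide) u

theorem IsTau.x12 {τ : Ty} {β : MulAut L} (h : A.IsTau τ β) (u : F4) :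
    β (A.x 1 2 u) = if τ.2.1 then A.x 0 1 (pu τ 1 2 u) else A.x 1 2 (pu τ 1 2 u) :=
  h 1 2 (by decide) u

theorem pu_02 (τ : Ty) (u : F4) : pu τ 0 2 u = fr τ.1 u := by
  rw [pu, dg_02, one_mul]

theorem IsTau.x02 {τ : Ty} {β : MulAut L} (h : A.IsTau τ β) (u : F4) :
    β (A.x 0 2 u) = A.x 0 2 (fr τ.1 u) := by
  have := h 0 2 (by decide) u
  rw [this, imgx, pu_02]
  split <;> rfl

theorem pu_20 : ∀ (τ : Ty) (u : F4), pu τ 2 0 u = fr τ.1 u := by
  decide

theorem IsTau.x20 {τ : Ty} {β : MulAut L} (h : A.IsTau τ β) (u : F4) :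
    β (A.x 2 0 u) = A.x 2 0 (fr τ.1 u) := by
  have := h 2 0 (by decide) u
  rw [this, imgx, pu_20]
  split <;> rfl

theorem IsTau.el {τ : Ty} {β : MulAut L} (h : A.IsTau τ β) (p : Code) :
    β (A.el p) = A.el (ctau τ p) := by
  rw [A.el_eq, map_mul, map_mul, h.x01, h.x12, h.x02]
  unfold ctau
  rw [pu_02]
  split
  · rw [← A.el_mul, ← A.el_mul, A.el_x12, A.el_x01, A.el_x02]
  · rfl

theorem kap_cube : ∀ i j u, kap i j * (kap i j * kap i j * u) = u := by decide

theorem h_inv_x (i j : Fin 3) (h : i ≠ j) (u : F4) :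
    A.h * A.x i j u * A.h⁻¹ = A.x i j (kap i j * kap i j * u) := by
  have h1 := A.h_x i j h (kap i j * kap i j * u)
  rw [kap_cube] at h1
  rw [← h1]; group

end Dat

end Cfsg.Agent.LThreeFour
end

private theorem dce_caded858cf37 : _root_.True := by
  try have : _root_.True := by simp only [_root_.Cfsg.Agent.LThreeFour.cmul.eq_1]
  try have : _root_.True := by simp only [_root_.Cfsg.Agent.LThreeFour.Ty.mul.eq_1]
  try have : _root_.True := by simp only [_root_.Cfsg.Agent.LThreeFour.cone.eq_1]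
  try have : _root_.True := by simp only [_root_.Cfsg.Agent.LThreeFour.imgx.eq_1]
  try have : _root_.True := by simp only [_root_.Cfsg.Agent.LThreeFour.pu.eq_1]
  exact _root_.True.intro
end

-- part: LThreeFour/Inv
section
set_option linter.all false
open scoped Cfsg.Agent.FastGrp

-- part: LThreeFour/Aut
section
/-!
# Automorphisms of `L3(4)` and their codes
-/

set_option autoImplicit false
set_option linter.constructorNameAsVariable false
set_option linter.unusedVariables false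

namespace Cfsg.Agent.LThreeFour

open Cfsg.Agent.SporadicA.FieldFour
open Cfsg.Agent.ONType.Psl (kap)
open Cfsg.Agent.ONType.OuterL (rv rv_ne rv_rv)

attribute [local instance high] _root_.List.decidableBAll in
/-- finite fact: a coded automorphism fixing the generators of `T` is trivial -/
theorem fix_T : ∀ (τ : Ty) a b c, (∀ y ∈ ([⟨1, 0, 0⟩, ⟨F4.w, 0, 0⟩, ⟨0, 1, 0⟩, ⟨0, F4.w, 0⟩] : List Code),
    cact ⟨a, b, c⟩ τ y = y) → τ = ty1 ∧ a = 0 ∧ b = 0 := by
  decide +kernel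

theorem comm_aux : ∀ a b c, cmul ⟨a, b, c⟩ ⟨1, 0, 0⟩ = cmul ⟨1, 0, 0⟩ ⟨a, b, c⟩ →
    cmul ⟨a, b, c⟩ ⟨0, 1, 0⟩ = cmul ⟨0, 1, 0⟩ ⟨a, b, c⟩ → a = 0 ∧ b = 0 := by
  decide +kernel

theorem cinv_cinv (p : Code) : cinv (cinv p) = p := by revert p; decide +kernel

namespace Dat

variable {L : Type*} [Group L] {A : Dat L}

theorem hom_ext {β β' : MulAut L} (h : ∀ i j, i ≠ j → ∀ u, β (A.x i j u) = β' (A.x i j u)) :
    β = β' := by
  have key := MonoidHom.eq_of_eqOn_dense A.gen (f := β.toMonoidHom) (g := β'.toMonoidHom)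
    (by rintro _ ⟨i, j, u, hij, rfl⟩; exact h i j hij u)
  ext y
  exact DFunLike.congr_fun key y

theorem IsTau.ext {τ : Ty} {β β' : MulAut L} (h : A.IsTau τ β) (h' : A.IsTau τ β') : β = β' :=
  hom_ext fun i j hij u => (h i j hij u).trans (h' i j hij u).symm

theorem imgx_ty1 (i j : Fin 3) (u : F4) : imgx A.x ty1 i j u = A.x i j u := by
  have : ∀ i j u, pu ty1 i j u = u := by decide
  rw [imgx, this]; rfl

theorem isTau_one : A.IsTau ty1 1 := fun i j hij u => by
  rw [imgx_ty1, MulAut.one_apply]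

theorem IsTau.imgx {τ : Ty} {β : MulAut L} (h : A.IsTau τ β) (τ' : Ty) (i j : Fin 3) (hij : i ≠ j)
    (u : F4) : β (LThreeFour.imgx A.x τ' i j u) = LThreeFour.imgx A.x (τ.mul τ') i j u := by
  rw [← imgx_imgx, LThreeFour.imgx]
  split
  · exact h (rv j) (rv i) (rv_ne hij.symm) _
  · exact h i j hij _

theorem IsTau.mul {τ τ' : Ty} {β β' : MulAut L} (h : A.IsTau τ β) (h' : A.IsTau τ' β') :
    A.IsTau (τ.mul τ') (β * β') := by
  intro i j hij u
  rw [MulAut.mul_apply, h' i j hij u]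
  exact h.imgx τ' i j hij u

theorem IsTau.inv {τ : Ty} {β : MulAut L} (h : A.IsTau τ β) : A.IsTau τ.inv β⁻¹ := by
  intro i j hij u
  have h1 := h.imgx τ.inv i j hij u
  rw [Ty.mul_inv, imgx_ty1] at h1
  rw [← h1, MulAut.inv_apply_self]

theorem conj_map (β : MulAut L) (l : L) : MulAut.conj (β l) = β * MulAut.conj l * β⁻¹ := by
  ext y
  simp [MulAut.conj_apply, MulAut.mul_apply]

theorem IsTau.conj {τ : Ty} {β : MulAut L} (h : A.IsTau τ β) (p : Code) :
    MulAut.conj (A.el (ctau τ p)) = β * MulAut.conj (A.el p) * β⁻¹ := by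
  rw [← conj_map, h.el]

variable (A) in
/-- `α` is `y ↦ p⁻¹ τ(y) p` -/
def Cd (α : MulAut L) (p : Code) (τ : Ty) : Prop := A.IsTau τ (MulAut.conj (A.el p) * α)

theorem Cd.apply {α : MulAut L} {p : Code} {τ : Ty} (h : A.Cd α p τ) (y : Code) :
    α (A.el y) = A.el (cact p τ y) := by
  have h1 := IsTau.el h y
  rw [MulAut.mul_apply, MulAut.conj_apply] at h1
  rw [cact, ← A.el_mul, ← A.el_mul, ← A.el_inv, ← h1]
  group

theorem IsTau.cd {τ : Ty} {β : MulAut L} (h : A.IsTau τ β) : A.Cd β cone τ := by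
  unfold Cd
  rwa [A.el_one, map_one, one_mul]

theorem Cd.mul {α β : MulAut L} {p q : Code} {τ ρ : Ty} (h : A.Cd α p τ) (h' : A.Cd β q ρ) :
    A.Cd (α * β) (cmul (ctau τ q) p) (τ.mul ρ) := by
  have key := IsTau.mul h h'
  have e1 := IsTau.conj h q
  unfold Cd
  rw [← A.el_mul, map_mul, e1]
  convert key using 1
  rw [mul_inv_rev]
  group

theorem Cd.inv {α : MulAut L} {p : Code} {τ : Ty} (h : A.Cd α p τ) :
    A.Cd α⁻¹ (cinv (ctau τ.inv p)) τ.inv := by
  have h1 := IsTau.inv h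
  have e1 := IsTau.conj h1 p
  unfold Cd at *
  rw [← A.el_inv, map_inv, e1]
  convert h1 using 1
  group

theorem Cd.conj {α : MulAut L} {p : Code} {τ : Ty} (h : A.Cd α p τ) (q : Code) :
    A.Cd (MulAut.conj (A.el q) * α * (MulAut.conj (A.el q))⁻¹)
      (cmul (ctau τ q) (cmul p (cinv q))) τ := by
  have e1 := IsTau.conj h q
  unfold Cd at *
  rw [← A.el_mul, ← A.el_mul, ← A.el_inv, map_mul, map_mul, map_inv, e1]
  convert h using 1
  group

theorem Cd.cone {α : MulAut L} {τ : Ty} (h : A.Cd α cone τ) : A.IsTau τ α := by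
  unfold Cd at h
  rwa [A.el_one, map_one, one_mul] at h

/-- the code of an inner automorphism by an element of `T` -/
theorem cd_conj (p : Code) : A.Cd (MulAut.conj (A.el p)) (cinv p) ty1 := by
  unfold Cd
  rw [← A.el_inv, map_inv, inv_mul_cancel]
  exact isTau_one

theorem Cd.eq_conj {α : MulAut L} {p : Code} (h : A.Cd α p ty1) :
    α = MulAut.conj (A.el (cinv p)) := by
  have h1 : MulAut.conj (A.el p) * α = 1 := IsTau.ext h isTau_one
  rw [← A.el_inv, map_inv]
  exact eq_inv_of_mul_eq_one_right h1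

theorem conj_inj_el (A : Dat L) {p : Code} (h : MulAut.conj (A.el p) = 1) :
    p = LThreeFour.cone := by
  obtain ⟨a, b, c⟩ := p
  have key : ∀ y, A.el (cmul ⟨a, b, c⟩ y) = A.el (cmul y ⟨a, b, c⟩) := by
    intro y
    rw [← A.el_mul, ← A.el_mul]
    have := DFunLike.congr_fun h (A.el y)
    rw [MulAut.conj_apply, MulAut.one_apply] at this
    exact mul_inv_eq_iff_eq_mul.mp this
  have h1 := A.inj (key ⟨1, 0, 0⟩)
  have h2 := A.inj (key ⟨0, 1, 0⟩)
  have h3 : a = 0 ∧ b = 0 := comm_aux a b c h1 h2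
  obtain ⟨rfl, rfl⟩ := h3
  -- `x₀₂(c)` commutes with `x₂₀(1)`
  rw [A.el_x02] at h
  have h4 : ∀ u, A.x 0 2 c * A.x 2 1 u = A.x 2 1 u * A.x 0 2 c := by
    intro u
    have := DFunLike.congr_fun h (A.x 2 1 u)
    rw [MulAut.conj_apply, MulAut.one_apply] at this
    exact mul_inv_eq_iff_eq_mul.mp this
  have h5 := A.x_sum 0 1 2 (by decide) (by decide) (by decide) c 1
  rw [h4 1, mul_one] at h5
  have h6 : A.x 0 1 c = 1 := mul_eq_left.mp h5.symm
  rw [← A.el_x01, A.el_eq_one] at h6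
  have : c = 0 := congrArg Code.a h6
  subst this
  rfl

/-- the centre is trivial (via the Sylow subgroup) -/
theorem conj_eq_one (A : Dat L) {l : L} (h : MulAut.conj l = 1) : l = 1 := by
  have h1 : l * A.x 0 2 1 = A.x 0 2 1 * l := by
    have := DFunLike.congr_fun h (A.x 0 2 1)
    rw [MulAut.conj_apply, MulAut.one_apply] at this
    exact mul_inv_eq_iff_eq_mul.mp this
  obtain ⟨p, rfl⟩ := A.cent l h1
  have := A.conj_inj_el h
  subst this
  exact A.el_one

theorem conj_injective (A : Dat L) : Function.Injective (MulAut.conj : L →* MulAut L) := by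
  rw [injective_iff_map_eq_one]
  exact fun l h => A.conj_eq_one h

/-- an automorphism fixing `T` pointwise is conjugation by a central element of `T` -/
theorem Cd.fix {α : MulAut L} {p : Code} {τ : Ty} (h : A.Cd α p τ)
    (hf : ∀ y ∈ ([⟨1, 0, 0⟩, ⟨F4.w, 0, 0⟩, ⟨0, 1, 0⟩, ⟨0, F4.w, 0⟩] : List Code),
      α (A.el y) = A.el y) : τ = ty1 ∧ p.a = 0 ∧ p.b = 0 :=
  fix_T τ p.a p.b p.c (fun y hy => by
    apply A.inj
    have := hf y hy
    rw [h.apply] at this
    exact this)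

theorem Cd.one {p : Code} {τ : Ty} (h : A.Cd 1 p τ) : τ = ty1 ∧ p = LThreeFour.cone := by
  have h1 := (h.fix (fun y _ => rfl)).1
  subst h1
  refine ⟨rfl, ?_⟩
  have h2 := h.eq_conj
  have h3 := A.conj_inj_el h2.symm
  rw [← cinv_cinv p, h3]; rfl

theorem Cd.unique {α : MulAut L} {p q : Code} {τ ρ : Ty} (h : A.Cd α p τ) (h' : A.Cd α q ρ) :
    ρ = τ ∧ q = p := by
  have h1 := h.inv.mul h'
  rw [inv_mul_cancel] at h1
  obtain ⟨h2, h3⟩ := h1.one
  have h4 : ρ = τ := Ty.eq_of_inv_mul _ _ h2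
  subst h4
  refine ⟨rfl, ?_⟩
  have h5 : MulAut.conj (A.el q) * α = MulAut.conj (A.el p) * α := IsTau.ext h' h
  have h6 := mul_right_cancel h5
  exact A.inj (A.conj_injective h6)

theorem IsTau.unique {τ ρ : Ty} {β : MulAut L} {n : L} (h : A.IsTau τ β)
    (h' : A.IsTau ρ (MulAut.conj n * β)) : ρ = τ ∧ n = 1 := by
  have h1 : n * A.x 0 2 1 = A.x 0 2 1 * n := by
    have h2 := h'.x02 1
    rw [MulAut.mul_apply, h.x02 1, MulAut.conj_apply] at h2
    have e1 : ∀ e, fr e (1 : F4) = 1 := by decide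
    rw [e1, e1] at h2
    exact mul_inv_eq_iff_eq_mul.mp h2
  obtain ⟨p, rfl⟩ := A.cent n h1
  have h2 : A.Cd β p ρ := h'
  obtain ⟨h3, h4⟩ := h.cd.unique h2
  subst h4
  exact ⟨h3, A.el_one⟩

end Dat

end Cfsg.Agent.LThreeFour
end

-- part: LThreeFour/Inv
section
/-!
# Outer types, Sylow embedding and classes of involutory automorphisms of `L3(4)`
-/

set_option autoImplicit false
set_option linter.constructorNameAsVariable false
set_option linter.unusedVariables false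

namespace Cfsg.Agent.LThreeFour

open Cfsg.Agent.SporadicA.FieldFour
open Cfsg.Agent.ONType.Psl (kap)
open Cfsg.Agent.ONType.OuterL (rv rv_ne rv_rv)

theorem Ty.eq_of_mul_one : ∀ τ ρ : Ty, τ.mul ρ = ty1 → ρ = τ.inv := by decide +kernel

theorem Ty.inv_inv : ∀ τ : Ty, τ.inv.inv = τ := by decide

theorem cact_x02 : ∀ (τ : Ty) p, cact p τ ⟨0, 0, 1⟩ = ⟨0, 0, 1⟩ := by
  have h1 : ∀ τ : Ty, ctau τ ⟨0, 0, 1⟩ = ⟨0, 0, 1⟩ := by decide +kernel
  have h2 : ∀ p, cmul (cmul (cinv p) ⟨0, 0, 1⟩) p = ⟨0, 0, 1⟩ := by decide +kernel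
  intro τ p
  rw [cact, h1, h2]

theorem inv_inner : ∀ a b c, cmul ⟨a, b, c⟩ ⟨a, b, c⟩ = cone →
    (a = 0 ∨ b = 0) := by
  decide +kernel

theorem inv_inner' : ∀ a b c, (a = 0 ∨ b = 0) → ¬ (⟨a, b, c⟩ : Code) = cone →
    ∃ a' b', (fun r : Code => (r.a = 0 ∧ r.b = 0) ∨ (r.b = 0 ∧ r.c = 0) ∨ (r.a = 0 ∧ r.c = 0))
      (cmul (cmul ⟨a', b', 0⟩ ⟨a, b, c⟩) (cinv ⟨a', b', 0⟩)) := by
  decide +kernel

set_option synthInstance.maxHeartbeats 400000 in
set_option synthInstance.maxSize 1024 in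
theorem inv_outer : ∀ (τ : Ty) a b c, τ ≠ ty1 → τ.mul τ = ty1 →
    cmul (ctau τ ⟨a, b, c⟩) ⟨a, b, c⟩ = cone →
    ∃ a' b' c', cmul (ctau τ ⟨a', b', c'⟩)
      (cmul ⟨a, b, c⟩ (cinv ⟨a', b', c'⟩)) = cone := by
  decide +kernel

namespace Dat

variable {L : Type*} [Group L] {A : Dat L}

variable (A) in
/-- outer type of an automorphism -/
def HasTy (α : MulAut L) (τ : Ty) : Prop := ∃ l, A.IsTau τ (MulAut.conj l * α)

theorem hasTy (α : MulAut L) : ∃ τ, A.HasTy α τ := by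
  obtain ⟨l, τ, h⟩ := A.exists_tau α
  exact ⟨τ, l, h⟩

theorem HasTy.unique {α : MulAut L} {τ ρ : Ty} (h : A.HasTy α τ) (h' : A.HasTy α ρ) : τ = ρ := by
  obtain ⟨l, hl⟩ := h
  obtain ⟨m, hm⟩ := h'
  have e : MulAut.conj m * α = MulAut.conj (m * l⁻¹) * (MulAut.conj l * α) := by
    rw [map_mul, map_inv]; group
  rw [e] at hm
  exact (hl.unique hm).1.symm

theorem IsTau.hasTy {τ : Ty} {α : MulAut L} (h : A.IsTau τ α) : A.HasTy α τ :=
  ⟨1, by rwa [map_one, one_mul]⟩

theorem Cd.hasTy {τ : Ty} {p : Code} {α : MulAut L} (h : A.Cd α p τ) : A.HasTy α τ :=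
  ⟨A.el p, h⟩

theorem HasTy.mul {α β : MulAut L} {τ ρ : Ty} (h : A.HasTy α τ) (h' : A.HasTy β ρ) :
    A.HasTy (α * β) (τ.mul ρ) := by
  obtain ⟨l, hl⟩ := h
  obtain ⟨m, hm⟩ := h'
  refine ⟨(MulAut.conj l * α) m * l, ?_⟩
  have := hl.mul hm
  convert this using 1
  rw [map_mul, conj_map]
  group

theorem hasTy_one : A.HasTy (1 : MulAut L) ty1 := isTau_one.hasTy

theorem hasTy_conj (l : L) : A.HasTy (MulAut.conj l) ty1 :=
  ⟨l⁻¹, by rw [map_inv, inv_mul_cancel]; exact isTau_one⟩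

theorem HasTy.inner {α : MulAut L} (h : A.HasTy α ty1) : ∃ l, α = MulAut.conj l := by
  obtain ⟨l, hl⟩ := h
  refine ⟨l⁻¹, ?_⟩
  have := hl.ext isTau_one
  rw [map_inv]
  exact eq_inv_of_mul_eq_one_right this

theorem HasTy.inv {α : MulAut L} {τ : Ty} (h : A.HasTy α τ) : A.HasTy α⁻¹ τ.inv := by
  obtain ⟨ρ, hρ⟩ := A.hasTy α⁻¹
  have h1 := h.mul hρ
  rw [mul_inv_cancel] at h1
  have h2 := h1.unique isTau_one.hasTy
  rwa [← Ty.eq_of_mul_one _ _ h2]

/-- an automorphism fixing `x₀₂(1)` -/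
theorem exists_cd {α : MulAut L} (h : α (A.x 0 2 1) = A.x 0 2 1) : ∃ p τ, A.Cd α p τ := by
  obtain ⟨l, τ, hl⟩ := A.exists_tau α
  have h2 := hl.x02 1
  have e1 : ∀ e, fr e (1 : F4) = 1 := by decide
  rw [MulAut.mul_apply, h, MulAut.conj_apply, e1] at h2
  obtain ⟨p, rfl⟩ := A.cent l (mul_inv_eq_iff_eq_mul.mp h2)
  exact ⟨p, τ, hl⟩

theorem Cd.x02 {α : MulAut L} {p : Code} {τ : Ty} (h : A.Cd α p τ) :
    α (A.x 0 2 1) = A.x 0 2 1 := by
  rw [← A.el_x02, h.apply, cact_x02]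

variable (A) in
/-- automorphisms with a code = automorphisms fixing `x₀₂(1)` -/
def MT : Subgroup (MulAut L) where
  carrier := {α | ∃ p τ, A.Cd α p τ}
  mul_mem' := by
    rintro α β ⟨p, τ, h⟩ ⟨q, ρ, h'⟩
    exact ⟨_, _, h.mul h'⟩
  one_mem' := ⟨cone, ty1, isTau_one.cd⟩
  inv_mem' := by
    rintro α ⟨p, τ, h⟩
    exact ⟨_, _, h.inv⟩

theorem mem_MT {α : MulAut L} : α ∈ A.MT ↔ ∃ p τ, A.Cd α p τ := Iff.rfl

theorem mem_MT_iff {α : MulAut L} : α ∈ A.MT ↔ α (A.x 0 2 1) = A.x 0 2 1 :=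
  ⟨fun ⟨_, _, h⟩ => h.x02, fun h => A.exists_cd h⟩

theorem IsTau.mem_MT {τ : Ty} {β : MulAut L} (h : A.IsTau τ β) : β ∈ A.MT := ⟨_, _, h.cd⟩

theorem conj_mem_MT (p : Code) : MulAut.conj (A.el p) ∈ A.MT := ⟨_, _, A.cd_conj p⟩

theorem MT_odd : ¬ 2 ∣ Nat.card (MulAut L ⧸ A.MT) := by
  let act : MulAction L (MulAut L ⧸ A.MT) :=
    MulAction.compHom _ (MulAut.conj : L →* MulAut L)
  have hact : ∀ (l : L) (β : MulAut L), l • (β : MulAut L ⧸ A.MT) =
      ((MulAut.conj l * β : MulAut L) : MulAut L ⧸ A.MT) := fun _ _ => rfl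
  have htr : MulAction.IsPretransitive L (MulAut L ⧸ A.MT) := by
    rw [MulAction.isPretransitive_iff_base ((1 : MulAut L) : MulAut L ⧸ A.MT)]
    intro x
    obtain ⟨β, rfl⟩ := QuotientGroup.mk_surjective x
    obtain ⟨l, τ, hl⟩ := A.exists_tau β
    refine ⟨l⁻¹, ?_⟩
    rw [hact, QuotientGroup.eq, mul_one, map_inv, inv_inv]
    exact hl.mem_MT
  rw [← MulAction.index_stabilizer_of_transitive L ((1 : MulAut L) : MulAut L ⧸ A.MT)]
  intro h
  apply A.T_index
  refine h.trans (Subgroup.index_dvd_of_le ?_)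
  rintro _ ⟨p, rfl⟩
  rw [MulAction.mem_stabilizer_iff, hact, mul_one, QuotientGroup.eq, mul_one]
  exact inv_mem (conj_mem_MT p)

/-- every 2-group of automorphisms is conjugate into `MT` -/
theorem exists_conj_MT (Q : Subgroup (MulAut L)) (hQ : IsPGroup 2 Q) :
    ∃ l, ∀ α ∈ Q, MulAut.conj l * α * (MulAut.conj l)⁻¹ ∈ A.MT := by
  obtain ⟨x, hx⟩ := hQ.nonempty_fixed_point_of_prime_not_dvd_card (MulAut L ⧸ A.MT) MT_odd
  obtain ⟨β, rfl⟩ := QuotientGroup.mk_surjective x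
  obtain ⟨l, τ, hl⟩ := A.exists_tau β
  refine ⟨l, fun α hα => ?_⟩
  have h2 := hx ⟨α, hα⟩
  have h3 : ((α * β : MulAut L) : MulAut L ⧸ A.MT) = (β : MulAut L ⧸ A.MT) := h2
  rw [eq_comm, QuotientGroup.eq] at h3
  have h4 := mul_mem (mul_mem hl.mem_MT h3) (inv_mem hl.mem_MT)
  convert h4 using 1
  group

theorem isPGroup_zpowers {α : MulAut L} {n : ℕ} (h : α ^ (2 ^ n) = 1) :
    IsPGroup 2 (Subgroup.zpowers α) := by
  intro x
  obtain ⟨x, hx⟩ := x
  obtain ⟨k, rfl⟩ := Subgroup.mem_zpowers_iff.mp hx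
  refine ⟨n, ?_⟩
  apply Subtype.ext
  show (α ^ k) ^ (2 ^ n) = 1
  rw [← zpow_natCast, ← zpow_mul, mul_comm, zpow_mul, zpow_natCast, h, one_zpow]

theorem exists_conj_cd {α : MulAut L} {n : ℕ} (h : α ^ (2 ^ n) = 1) :
    ∃ l p τ, A.Cd (MulAut.conj l * α * (MulAut.conj l)⁻¹) p τ := by
  obtain ⟨l, hl⟩ := A.exists_conj_MT _ (isPGroup_zpowers h)
  obtain ⟨p, τ, hp⟩ := hl α (Subgroup.mem_zpowers α)
  exact ⟨l, p, τ, hp⟩

theorem x02_conj (A : Dat L) (c : F4) (h : c ≠ 0) : ∃ g, g * A.x 0 2 c * g⁻¹ = A.x 0 2 1 := by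
  cases c
  · exact absurd rfl h
  · exact ⟨1, by rw [one_mul, inv_one, mul_one]; rfl⟩
  · refine ⟨A.h⁻¹, ?_⟩
    rw [inv_inv, A.h_x 0 2 (by decide)]
    rfl
  · refine ⟨A.h, ?_⟩
    have := A.h_x 0 2 (by decide) 1
    have e : kap 0 2 * 1 = F4.v := rfl
    rw [e] at this
    rw [← this]; group

theorem x01_conj (A : Dat L) (a : F4) (h : a ≠ 0) : ∃ g, g * A.x 0 1 a * g⁻¹ = A.x 0 2 1 := by
  obtain ⟨g, hg⟩ := A.x02_conj a h
  have := A.x_wey 1 2 0 1 (by decide) (by decide) a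
  have e1 : Equiv.swap (1 : Fin 3) 2 0 = 0 := by decide
  have e2 : Equiv.swap (1 : Fin 3) 2 1 = 2 := by decide
  rw [e1, e2] at this
  refine ⟨g * (A.x 1 2 1 * A.x 2 1 1 * A.x 1 2 1)⁻¹, ?_⟩
  rw [← hg, ← this]
  group

theorem x12_conj (A : Dat L) (b : F4) (h : b ≠ 0) : ∃ g, g * A.x 1 2 b * g⁻¹ = A.x 0 2 1 := by
  obtain ⟨g, hg⟩ := A.x02_conj b h
  have := A.x_wey 0 1 1 2 (by decide) (by decide) b
  have e1 : Equiv.swap (0 : Fin 3) 1 1 = 0 := by decide
  have e2 : Equiv.swap (0 : Fin 3) 1 2 = 2 := by decide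
  rw [e1, e2] at this
  refine ⟨g * (A.x 0 1 1 * A.x 1 0 1 * A.x 0 1 1)⁻¹, ?_⟩
  rw [← hg, ← this]
  group

/-- codes of involutions of `T` are conjugate to `x₀₂(1)` -/
theorem el_conj (A : Dat L) (p : Code) (h1 : p ≠ cone) (h2 : cmul p p = cone) :
    ∃ g, g * A.el p * g⁻¹ = A.x 0 2 1 := by
  obtain ⟨a, b, c⟩ := p
  obtain ⟨a', b', hr⟩ := inv_inner' a b c (inv_inner a b c h2) h1
  set r := cmul (cmul ⟨a', b', 0⟩ ⟨a, b, c⟩) (cinv ⟨a', b', 0⟩) with hrdef
  have hr' : A.el r = A.el ⟨a', b', 0⟩ * A.el ⟨a, b, c⟩ * (A.el ⟨a', b', 0⟩)⁻¹ := by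
    rw [hrdef, ← A.el_mul, ← A.el_mul, A.el_inv]
  have hr1 : r ≠ cone := by
    intro h
    rw [h, A.el_one] at hr'
    apply h1
    have : A.el ⟨a, b, c⟩ = (A.el ⟨a', b', 0⟩)⁻¹ * (A.el ⟨a', b', 0⟩ * A.el ⟨a, b, c⟩ *
      (A.el ⟨a', b', 0⟩)⁻¹) * A.el ⟨a', b', 0⟩ := by group
    rw [← hr', mul_one, inv_mul_cancel] at this
    exact A.el_eq_one.mp this
  have key : ∃ g, g * A.el r * g⁻¹ = A.x 0 2 1 := by
    rcases hr with ⟨ha, hb⟩ | ⟨hb, hc⟩ | ⟨ha, hc⟩
    · have hne : r.c ≠ 0 := fun h => hr1 (by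
        rw [show r = ⟨r.a, r.b, r.c⟩ from rfl, ha, hb, h]; rfl)
      have : A.el r = A.x 0 2 r.c := by
        rw [← A.el_x02, show r = ⟨r.a, r.b, r.c⟩ from rfl, ha, hb]
      rw [this]
      exact A.x02_conj _ hne
    · have hne : r.a ≠ 0 := fun h => hr1 (by
        rw [show r = ⟨r.a, r.b, r.c⟩ from rfl, h, hb, hc]; rfl)
      have : A.el r = A.x 0 1 r.a := by
        rw [← A.el_x01, show r = ⟨r.a, r.b, r.c⟩ from rfl, hb, hc]
      rw [this]
      exact A.x01_conj _ hne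
    · have hne : r.b ≠ 0 := fun h => hr1 (by
        rw [show r = ⟨r.a, r.b, r.c⟩ from rfl, ha, h, hc]; rfl)
      have : A.el r = A.x 1 2 r.b := by
        rw [← A.el_x12, show r = ⟨r.a, r.b, r.c⟩ from rfl, ha, hc]
      rw [this]
      exact A.x12_conj _ hne
  obtain ⟨g, hg⟩ := key
  exact ⟨g * A.el ⟨a', b', 0⟩, by rw [← hg, hr']; group⟩

/-- **All involutions of `L` are conjugate.** -/
theorem invol_conj (A : Dat L) (l : L) (h1 : l ≠ 1) (h2 : l * l = 1) :
    ∃ g, g * l * g⁻¹ = A.x 0 2 1 := by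
  obtain ⟨m, p, τ, hcd⟩ := A.exists_conj_cd (α := MulAut.conj l) (n := 1)
    (by rw [pow_one, pow_two, ← map_mul, h2, map_one])
  have e1 : MulAut.conj m * MulAut.conj l * (MulAut.conj m)⁻¹ = MulAut.conj (m * l * m⁻¹) := by
    rw [map_mul, map_mul, map_inv]
  rw [e1] at hcd
  have h3 : τ = ty1 := hcd.hasTy.unique (A.hasTy_conj _)
  subst h3
  have h4 := A.conj_injective hcd.eq_conj
  have h5 : A.el (cinv p) * A.el (cinv p) = 1 := by
    rw [← h4]
    calc m * l * m⁻¹ * (m * l * m⁻¹) = m * (l * l) * m⁻¹ := by group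
      _ = 1 := by rw [h2]; group
  have h6 : A.el (cinv p) ≠ 1 := by
    rw [← h4]
    intro h
    apply h1
    have : l = m⁻¹ * (m * l * m⁻¹) * m := by group
    rw [this, h]; group
  rw [A.el_mul, A.el_eq_one] at h5
  obtain ⟨g, hg⟩ := A.el_conj (cinv p) (fun h => h6 (A.el_eq_one.mpr h)) h5
  exact ⟨g * m, by rw [← hg, ← h4]; group⟩

/-- **Classes of involutory automorphisms.** -/
theorem inv_class (v : MulAut L) (h1 : v ≠ 1) (h2 : v * v = 1) :
    ∃ l, (∃ τ, τ ≠ ty1 ∧ A.IsTau τ (MulAut.conj l * v * (MulAut.conj l)⁻¹)) ∨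
      MulAut.conj l * v * (MulAut.conj l)⁻¹ = MulAut.conj (A.x 0 2 1) := by
  obtain ⟨l, p, τ, hcd⟩ := A.exists_conj_cd (α := v) (n := 1) (by rw [pow_one, pow_two, h2])
  set v' := MulAut.conj l * v * (MulAut.conj l)⁻¹ with hv'
  have h1' : v' ≠ 1 := by
    intro h
    apply h1
    have : v = (MulAut.conj l)⁻¹ * v' * MulAut.conj l := by rw [hv']; group
    rw [this, h]; group
  have h2' : v' * v' = 1 := by
    calc v' * v' = MulAut.conj l * (v * v) * (MulAut.conj l)⁻¹ := by rw [hv']; group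
      _ = 1 := by rw [h2]; group
  by_cases hτ : τ = ty1
  · subst hτ
    have h3 := hcd.eq_conj
    set r := A.el (cinv p) with hr
    obtain ⟨g, hg⟩ := A.invol_conj r (by
      intro h; rw [h, map_one] at h3; exact h1' h3) (by
      apply A.conj_injective
      rw [map_mul, ← h3, h2', map_one])
    refine ⟨g * l, Or.inr ?_⟩
    calc MulAut.conj (g * l) * v * (MulAut.conj (g * l))⁻¹
        = MulAut.conj g * v' * (MulAut.conj g)⁻¹ := by rw [hv', map_mul]; group
      _ = _ := by rw [h3, ← hg, map_mul, map_mul, map_inv]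
  · have hsq := hcd.mul hcd
    rw [h2'] at hsq
    obtain ⟨h3, h4⟩ := hsq.one
    obtain ⟨a', b', c', hq⟩ := inv_outer τ p.a p.b p.c hτ h3 h4
    have hc2 := hcd.conj ⟨a', b', c'⟩
    refine ⟨A.el ⟨a', b', c'⟩ * l, Or.inl ⟨τ, hτ, ?_⟩⟩
    have hq' : cmul (ctau τ ⟨a', b', c'⟩) (cmul p (cinv ⟨a', b', c'⟩)) = cone := hq
    rw [hq'] at hc2
    have := hc2.cone
    convert this using 1
    rw [hv', map_mul]; group

end Dat

end Cfsg.Agent.LThreeFour
end

private theorem dce_f147fac513d3 : _root_.True := by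
  try have : _root_.True := by simp only [_root_.Cfsg.Agent.LThreeFour.cact.eq_1]
  exact _root_.True.intro
end

-- part: LThreeFour/Exists
section
set_option linter.all false
open scoped Cfsg.Agent.FastGrp

/-!
# Coordinates on `PSL(3,4)`
-/

set_option autoImplicit false
set_option linter.constructorNameAsVariable false
set_option linter.unusedVariables false

namespace Cfsg.Agent.LThreeFour


open Cfsg.Agent.SporadicA.FieldFour
open Cfsg.Agent.ONType.Psl
open Cfsg.Agent.ONType.OuterL (rv rv_ne rv_rv dd exists_std)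
open Cfsg.Agent.ONType.PslCard
open Cfsg.Agent.StdL34.PslCent

theorem exists_om (d : F4) (hd : d ≠ 0) : ∃ k, d = om k := by
  revert d; decide

theorem dd_aux : ∀ k : Fin 3, ∃ m : Fin 3, ∃ n : Fin 3, ∀ i j : Fin 3, i ≠ j →
    kap i j ^ (m : ℕ) * (dd (om k) i * (dd (om k) j)⁻¹) = dg n i j := by
  decide +kernel

theorem hh_conj (m : ℕ) (i j : Fin 3) (h : i ≠ j) (u : F4) :
    (hh ^ m)⁻¹ * t i j u * hh ^ m = t i j (kap i j ^ m * u) := by
  induction m with
  | zero => simp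
  | succ n ih =>
    have h1 : hh⁻¹ * t i j (kap i j ^ n * u) * hh = t i j (kap i j * (kap i j ^ n * u)) := by
      have := t_h i j (kap i j ^ n * u) h
      rw [mul_assoc, this, inv_mul_cancel_left]
    rw [pow_succ hh, mul_inv_rev, pow_succ', mul_assoc (kap i j), ← h1, ← ih]
    group

theorem ringEquiv_fr (σ : F4 ≃+* F4) : ∃ e, ∀ u, σ u = fr e u := by
  rcases Cfsg.Agent.ONType.OuterL.ringEquiv_eq σ with h | h
  · exact ⟨false, fun u => by rw [h]; rfl⟩
  · exact ⟨true, fun u => by rw [h]; rfl⟩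

theorem hh_eq (i j : Fin 3) (h : i ≠ j) :
    t i j (kap i j) * t j i (kap j i) * t i j (kap i j) * (t i j 1 * t j i 1 * t i j 1) = hh := by
  have e1 : t i j (kap i j) = hh⁻¹ * t i j 1 * hh := by
    have := hh_conj 1 i j h 1
    rw [pow_one, pow_one, mul_one] at this
    exact this.symm
  have e2 : t j i (kap j i) = hh⁻¹ * t j i 1 * hh := by
    have := hh_conj 1 j i h.symm 1
    rw [pow_one, pow_one, mul_one] at this
    exact this.symm
  have e3 : hh * nn i j * hh = nn i j := hnh i j h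
  have e4 : nn i j * nn i j = 1 := by
    have h1 := t_n i j i j 1 h h
    have h2 := t_n i j j i 1 h h.symm
    rw [Equiv.swap_apply_left, Equiv.swap_apply_right] at h1 h2
    have h3 : nn i j * nn i j = nn i j * (t j i 1 * t i j 1 * t j i 1) := by
      calc nn i j * nn i j = (t i j 1 * t j i 1 * t i j 1) * nn i j := rfl
        _ = t i j 1 * t j i 1 * (t i j 1 * nn i j) := by group
        _ = t i j 1 * (t j i 1 * nn i j) * t j i 1 := by rw [h1]; group
        _ = (t i j 1 * nn i j) * t i j 1 * t j i 1 := by rw [h2]; group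
        _ = nn i j * (t j i 1 * t i j 1 * t j i 1) := by rw [h1]; group
    have h4 : t j i 1 * t i j 1 * t j i 1 = t i j 1 * t j i 1 * t i j 1 := by
      have h5 := mul_left_cancel h3
      exact h5.symm
    have h5 : ∀ a b : Fin 3, a ≠ b → t a b 1 * t a b 1 = 1 := by
      intro a b hab
      rw [t_add a b 1 1 hab]
      exact t_zero a b
    calc nn i j * nn i j = (t i j 1 * t j i 1 * t i j 1) * (t i j 1 * t j i 1 * t i j 1) := rfl
      _ = t i j 1 * t j i 1 * (t i j 1 * t i j 1) * t j i 1 * t i j 1 := by group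
      _ = t i j 1 * (t j i 1 * t j i 1) * t i j 1 := by rw [h5 i j h]; group
      _ = 1 := by rw [h5 j i h.symm, mul_one, h5 i j h]
  rw [e1, e2]
  calc hh⁻¹ * t i j 1 * hh * (hh⁻¹ * t j i 1 * hh) * (hh⁻¹ * t i j 1 * hh) *
        (t i j 1 * t j i 1 * t i j 1)
      = hh⁻¹ * nn i j * hh * nn i j := by unfold nn; group
    _ = hh⁻¹ * hh⁻¹ * (hh * nn i j * hh) * nn i j := by group
    _ = hh⁻¹ * hh⁻¹ * (nn i j * nn i j) := by rw [e3]; group
    _ = hh⁻¹ * hh⁻¹ := by rw [e4, mul_one]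
    _ = hh := by
      rw [← mul_inv_rev, inv_eq_iff_mul_eq_one]
      have := hh_pow
      rw [pow_three] at this
      rw [mul_assoc]; exact this

/-- the coordinates of `PSL(3,4)` -/
noncomputable def datPSL : Dat PSL3 where
  x := t
  h := hh
  x_add i j h u v := t_add i j u v h
  x_row i j k h1 h2 u v := t_row i j k u v h1 h2
  x_col i j k h1 h2 u v := t_col i j k u v h1 h2
  x_sum i j k h1 h2 h3 u v := t_sum i j k u v h1 h2 h3
  x_wey i j k l h h' u := by
    have := t_n i j k l u h h'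
    unfold nn at this
    rw [mul_assoc, this, inv_mul_cancel_left]
  h_pow := hh_pow
  h_x i j h u := by rw [mul_assoc, t_h i j u h, inv_mul_cancel_left]
  h_eq := hh_eq
  el_inj p q h := by
    obtain ⟨ha, hb, hc⟩ := t_inj h
    cases p; cases q
    simp only at ha hb hc
    subst ha hb hc
    rfl
  gen := by
    rw [← closure_t]
    congr 1
    ext y
    simp only [Set.mem_ofPred_eq, exists_prop]
    constructor
    · rintro ⟨i, j, u, h, rfl⟩; exact ⟨i, j, h, u, rfl⟩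
    · rintro ⟨i, j, h, u, rfl⟩; exact ⟨i, j, u, h, rfl⟩
  odd_index := by
    refine ⟨Subgroup.centralizer ({t 0 2 1} : Set PSL3), ?_, ?_⟩
    · intro l
      rw [Subgroup.mem_centralizer_singleton_iff, cent_t02]
      constructor
      · rintro ⟨a, b, c, h⟩; exact ⟨⟨a, b, c⟩, h⟩
      · rintro ⟨p, h⟩; exact ⟨p.a, p.b, p.c, h⟩
    · have hcard : Nat.card (Subgroup.centralizer ({t 0 2 1} : Set PSL3)) = 64 := by
        rw [← card_code]
        symm
        apply Nat.card_congr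
        refine Equiv.ofBijective (fun p => ⟨elx t p, ?_⟩) ⟨?_, ?_⟩
        · rw [Subgroup.mem_centralizer_singleton_iff, cent_t02]
          exact ⟨p.a, p.b, p.c, rfl⟩
        · intro p q h
          obtain ⟨ha, hb, hc⟩ := t_inj (congrArg Subtype.val h)
          cases p; cases q
          simp only at ha hb hc
          subst ha hb hc
          rfl
        · rintro ⟨l, hl⟩
          rw [Subgroup.mem_centralizer_singleton_iff, cent_t02] at hl
          obtain ⟨a, b, c, h⟩ := hl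
          exact ⟨⟨a, b, c⟩, Subtype.ext h.symm⟩
      have h1 := Subgroup.card_mul_index (Subgroup.centralizer ({t 0 2 1} : Set PSL3))
      rw [hcard, card_PSL3] at h1
      omega
  cent l h := by
    rw [cent_t02] at h
    obtain ⟨a, b, c, h⟩ := h
    exact ⟨⟨a, b, c⟩, h⟩
  outer α := by
    obtain ⟨l, d, hd, σ, H⟩ := exists_std α
    obtain ⟨k, rfl⟩ := exists_om d hd
    obtain ⟨e, he⟩ := ringEquiv_fr σ
    obtain ⟨m, n, hmn⟩ := dd_aux k
    refine ⟨(hh ^ (m : ℕ))⁻¹ * l, ?_⟩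
    rcases H with H | H
    · refine ⟨(e, false, n), fun i j hij u => ?_⟩
      have h1 := H i j hij u
      rw [MulAut.mul_apply, MulAut.conj_apply] at h1
      have h2 := hh_conj m i j hij (dd (om k) i * (dd (om k) j)⁻¹ * σ u)
      rw [← mul_assoc, hmn i j hij, he] at h2
      show _ = t i j (dg n i j * fr e u)
      rw [← h2, ← he, ← h1]
      group
    · refine ⟨(e, true, -n), fun i j hij u => ?_⟩
      have h1 := H i j hij u
      rw [MulAut.mul_apply, MulAut.conj_apply] at h1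
      have h2 := hh_conj m (rv j) (rv i) (rv_ne hij.symm)
        (dd (om k) (rv j) * (dd (om k) (rv i))⁻¹ * σ u)
      rw [← mul_assoc, hmn _ _ (rv_ne hij.symm), he] at h2
      show _ = t (rv j) (rv i) (dg (-n) i j * fr e u)
      rw [← dg_rv n i j, ← h2, ← he, ← h1]
      group
  card := card_PSL3
  r_pow := tt_pow_three
  r_ne := tt_ne_one

/-- transport of coordinates -/
noncomputable def Dat.map {L M : Type*} [Group L] [Group M] (A : Dat L) (e : L ≃* M) : Dat M where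
  x i j u := e (A.x i j u)
  h := e A.h
  x_add i j h u v := by rw [← map_mul, A.x_add i j h]
  x_row i j k h1 h2 u v := by rw [← map_mul, ← map_mul, A.x_row i j k h1 h2]
  x_col i j k h1 h2 u v := by rw [← map_mul, ← map_mul, A.x_col i j k h1 h2]
  x_sum i j k h1 h2 h3 u v := by
    rw [← map_mul, A.x_sum i j k h1 h2 h3, map_mul, map_mul]
  x_wey i j k l h h' u := by
    rw [← map_mul, ← map_mul, ← map_inv, ← map_mul, ← map_mul, A.x_wey i j k l h h']
  h_pow := by rw [← map_pow, A.h_pow, map_one]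
  h_x i j h u := by rw [← map_inv, ← map_mul, ← map_mul, A.h_x i j h]
  h_eq i j h := by
    rw [← map_mul, ← map_mul, ← map_mul, ← map_mul, ← map_mul, A.h_eq i j h]
  el_inj p q h := by
    have h1 : ∀ p, elx (fun i j u => e (A.x i j u)) p = e (elx A.x p) := by
      intro p; unfold elx; rw [map_mul, map_mul]
    rw [h1, h1] at h
    exact A.el_inj (e.injective h)
  gen := by
    have h1 := congrArg (Subgroup.map (e : L →* M)) A.gen
    rw [MonoidHom.map_closure, Subgroup.map_top_of_surjective _ e.surjective] at h1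
    rw [← h1]
    congr 1
    ext y
    constructor
    · rintro ⟨i, j, u, h, rfl⟩; exact ⟨_, ⟨i, j, u, h, rfl⟩, rfl⟩
    · rintro ⟨_, ⟨i, j, u, h, rfl⟩, rfl⟩; exact ⟨i, j, u, h, rfl⟩
  odd_index := by
    obtain ⟨T, hT, h2⟩ := A.odd_index
    have h1 : ∀ p, elx (fun i j u => e (A.x i j u)) p = e (elx A.x p) := by
      intro p; unfold elx; rw [map_mul, map_mul]
    refine ⟨T.map (e : L →* M), ?_, ?_⟩
    · intro l
      constructor
      · rintro ⟨y, hy, rfl⟩
        obtain ⟨p, rfl⟩ := (hT y).1 hy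
        exact ⟨p, (h1 p).symm⟩
      · rintro ⟨p, rfl⟩
        exact ⟨elx A.x p, (hT _).2 ⟨p, rfl⟩, (h1 p).symm⟩
    · rw [Subgroup.index_map_of_bijective e.bijective]
      exact h2
  cent l h := by
    have h1 : ∀ p, elx (fun i j u => e (A.x i j u)) p = e (elx A.x p) := by
      intro p; unfold elx; rw [map_mul, map_mul]
    obtain ⟨y, rfl⟩ := e.surjective l
    rw [← map_mul, ← map_mul] at h
    obtain ⟨p, rfl⟩ := A.cent y (e.injective h)
    exact ⟨p, (h1 p).symm⟩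
  outer α := by
    obtain ⟨l, τ, H⟩ := A.outer ((e.trans α).trans e.symm)
    refine ⟨e l, τ, fun i j hij u => ?_⟩
    have h1 := congrArg e (H i j hij u)
    rw [map_mul, map_mul, map_inv] at h1
    have h2 : e (((e.trans α).trans e.symm) (A.x i j u)) = α (e (A.x i j u)) := by simp
    rw [h2] at h1
    rw [h1]
    unfold imgx
    split <;> rfl
  card := by rw [← Nat.card_congr e.toEquiv, A.card]
  r_pow := by rw [← map_mul, ← map_pow, A.r_pow, map_one]
  r_ne := by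
    rw [← map_mul]
    intro h
    rw [map_eq_one_iff _ e.injective] at h
    exact A.r_ne h

theorem exists_dat {L : Type*} [Group L] {F : Type*} [Field F] [Fintype F]
    (hF : Fintype.card F = 4)
    (e : L ≃* Matrix.ProjectiveSpecialLinearGroup (Fin 3) F) : Nonempty (Dat L) := by
  obtain ⟨e'⟩ := nonempty_psl_equiv (n := Fin 3) F hF
  exact ⟨datPSL.map (e'.trans e.symm)⟩

end Cfsg.Agent.LThreeFour
end
end
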